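import Mathlib

/-! `p`-th roots of elements of a normal domain inside finite etale extensions. -/

set_option autoImplicit false
set_option linter.style.haveILetI false

universe u

open TensorProduct

namespace Groth.Agent.PurInsepPicLib

theorem exists_root_of_etale {A B : Type u} [CommRing A] [IsDomain A] [IsIntegrallyClosed A] [CommRing B]
    [Algebra A B] [Algebra.Etale A B] [Module.Finite A B] [Nontrivial B] (p : ℕ) [hp : Fact p.Prime] [CharP A p]
    {h : A} {v : B} (hv : v ^ p = algebraMap A B h) : ∃ b : A, b ^ p = h := by
  let K := FractionRing A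
  haveI : Nontrivial (K ⊗[A] B) := by
    have hinj : Function.Injective (algebraMap A B) := by
      rw [injective_iff_map_eq_zero]
      intro a ha
      by_contra hne
      have hsm : IsSMulRegular B a := Module.Flat.isSMulRegular_of_isRegular (IsRegular.of_ne_zero hne)
      exact one_ne_zero (hsm (show a • (1 : B) = a • (0 : B) by rw [smul_zero, Algebra.smul_def, ha, zero_mul]))
    have hi : Function.Injective (Algebra.TensorProduct.includeRight : B →ₐ[A] K ⊗[A] B) :=
      Algebra.TensorProduct.includeRight_injective (IsFractionRing.injective A K)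
    exact hi.nontrivial
  obtain ⟨I, _, L, _, _, e, he⟩ := Algebra.Etale.iff_exists_algEquiv_prod K (K ⊗[A] B) |>.mp inferInstance
  haveI : Nonempty I := by
    by_contra hI
    rw [not_nonempty_iff] at hI
    haveI : Subsingleton (∀ i, L i) := inferInstance
    exact not_subsingleton (K ⊗[A] B) e.injective.subsingleton
  let i : I := Classical.arbitrary I
  haveI := he i
  haveI := (he i).2
  letI : Algebra A (L i) := ((algebraMap K (L i)).comp (algebraMap A K)).toAlgebra
  haveI : IsScalarTower A K (L i) := IsScalarTower.of_algebraMap_eq fun _ => rfl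
  let ψ : B →ₐ[A] L i := ((Pi.evalAlgHom K L i).comp e.toAlgHom).restrictScalars A |>.comp
    (Algebra.TensorProduct.includeRight : B →ₐ[A] K ⊗[A] B)
  let y : L i := ψ v
  have hy : y ^ p = algebraMap K (L i) (algebraMap A K h) := by
    show ψ v ^ p = _
    rw [← map_pow, hv, AlgHom.commutes, ← IsScalarTower.algebraMap_apply A K (L i)]
  haveI : CharP K p := charP_of_injective_algebraMap (IsFractionRing.injective A K) p
  haveI : ExpChar K p := ExpChar.prime hp.out
  have hsep : IsSeparable K y := Algebra.IsSeparable.isSeparable K y
  have hmem : y ∈ (⊥ : IntermediateField K (L i)) := by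
    have h1 := IntermediateField.adjoin_simple_eq_adjoin_pow_expChar_pow_of_isSeparable K (L i) hsep p 1
    rw [pow_one] at h1
    have h2 : IntermediateField.adjoin K {y ^ p} = ⊥ := by
      rw [IntermediateField.adjoin_simple_eq_bot_iff, hy]
      exact IntermediateField.algebraMap_mem _ _
    exact h2.le (h1.le (IntermediateField.mem_adjoin_simple_self K y))
  obtain ⟨c, hc⟩ := IntermediateField.mem_bot.mp hmem
  have hci : IsIntegral A c := by
    have h1 : IsIntegral A y := (Algebra.IsIntegral.isIntegral v).map ψ
    rw [← hc] at h1
    exact (isIntegral_algebraMap_iff (algebraMap K (L i)).injective).mp h1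
  obtain ⟨b, rfl⟩ := IsIntegrallyClosed.isIntegral_iff.mp hci
  refine ⟨b, IsFractionRing.injective A K ((algebraMap K (L i)).injective ?_)⟩
  rw [map_pow, map_pow, hc, hy]

end Groth.Agent.PurInsepPicLib
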